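import Mathlib

universe u

namespace Groth.Agent.ValRank1

open IsDedekindDomain

theorem eq_valuationSubring_iff {A K : Type u} [CommRing A] [IsDedekindDomain A] [Field K] [Algebra A K]
    [IsFractionRing A K] (O : ValuationSubring K) :
    ((algebraMap A K).range ≤ O.toSubring ∧ O ≠ ⊤) ↔
      ∃ v : HeightOneSpectrum A, O = (v.valuation K).valuationSubring := by
  constructor
  · rintro ⟨hA, hO⟩
    let φ : A →+* O := (algebraMap A K).codRestrict O.toSubring fun a => hA ⟨a, rfl⟩
    let P : Ideal A := (IsLocalRing.maximalIdeal O).comap φ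
    have hP : P ≠ ⊥ := by
      intro hbot
      refine hO (eq_top_iff.2 fun x _ => ?_)
      obtain ⟨a, b, hb, rfl⟩ := IsFractionRing.div_surjective (A := A) x
      have hb0 : b ≠ 0 := nonZeroDivisors.ne_zero hb
      have hu : IsUnit (φ b) := by
        by_contra h
        have : b ∈ P := (IsLocalRing.mem_maximalIdeal (φ b)).2 h
        rw [hbot] at this
        exact hb0 this
      obtain ⟨c, hc⟩ := hu.exists_right_inv
      have hc' : algebraMap A K b * (c : K) = 1 := congrArg Subtype.val hc
      have hmem : algebraMap A K a * (c : K) ∈ O.toSubring := O.toSubring.mul_mem (hA ⟨a, rfl⟩) c.2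
      rwa [div_eq_mul_inv, inv_eq_of_mul_eq_one_right hc']
    let v : HeightOneSpectrum A := ⟨P, inferInstance, hP⟩
    refine ⟨v, ?_⟩
    rw [← HeightOneSpectrum.valuationSubringAtPrime_eq_valuationSubring]
    refine (ValuationSubring.eq_of_le_of_ne_top _ ?_ hO).symm
    rintro x ⟨a, s, hs, rfl⟩
    have hu : IsUnit (φ s) := by
      by_contra h
      exact hs ((IsLocalRing.mem_maximalIdeal (φ s)).2 h)
    obtain ⟨c, hc⟩ := hu.exists_right_inv
    have hc' : algebraMap A K s * (c : K) = 1 := congrArg Subtype.val hc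
    have hmem : algebraMap A K a * (c : K) ∈ O.toSubring := O.toSubring.mul_mem (hA ⟨a, rfl⟩) c.2
    rw [← inv_eq_of_mul_eq_one_right hc'] at hmem
    exact hmem
  · rintro ⟨v, rfl⟩
    refine ⟨?_, ?_⟩
    · rintro _ ⟨a, rfl⟩
      exact v.valuation_le_one a
    · simp only [ne_eq, Valuation.valuationSubring_eq_top_iff, not_not]
      infer_instance

end Groth.Agent.ValRank1
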